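import Groth.Agent.Lib.UnitNorm28.Local
import Mathlib.RingTheory.RamificationInertia.Ramification
import Mathlib.NumberTheory.NumberField.Basic
import Mathlib.RingTheory.DedekindDomain.AdicValuation
import Mathlib.RingTheory.Ideal.Norm.AbsNorm
import Mathlib.NumberTheory.NumberField.Completion.FinitePlace

/-!
# Units are norms modulo every power, at unramified places of number fields
-/

set_option autoImplicit false
set_option linter.style.haveILetI false

universe u

open NumberField IsDedekindDomain WithZero UniqueFactorizationMonoid IsLocalRing Module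
open scoped nonZeroDivisors

namespace GrothLib.UnitNorm28

variable {K L : Type u} [Field K] [NumberField K] [Field L] [NumberField L] [Algebra K L]

/-- The extension of an unramified prime is radical. -/
theorem isRadical_map (W : HeightOneSpectrum (𝓞 K))
    (hram : ∀ Q : Ideal (𝓞 L), Q.IsPrime → Q ≠ ⊥ → Q.LiesOver W.asIdeal → Q.ramificationIdx (𝓞 K) = 1) :
    (W.asIdeal.map (algebraMap (𝓞 K) (𝓞 L))).IsRadical := by
  classical
  let I := W.asIdeal.map (algebraMap (𝓞 K) (𝓞 L))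
  have hI : I ≠ ⊥ := (Ideal.map_eq_bot_iff_of_injective (FaithfulSMul.algebraMap_injective _ _)).not.mpr W.ne_bot
  have hsq : Squarefree I := by
    rw [squarefree_iff_nodup_normalizedFactors hI, Multiset.nodup_iff_count_le_one]
    intro Q
    by_cases hQ : Q ∈ normalizedFactors I
    · obtain ⟨hQp, hle⟩ := (Ideal.mem_normalizedFactors_iff hI).mp hQ
      have hQ0 : Q ≠ ⊥ := ne_zero_of_mem_normalizedFactors hQ
      haveI := hQp
      haveI : Q.LiesOver W.asIdeal := ⟨((W.isMaximal).eq_of_le (Ideal.comap_ne_top _ hQp.ne_top)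
        (Ideal.map_le_iff_le_comap.mp hle))⟩
      exact ((Ideal.IsDedekindDomain.ramificationIdx_eq_normalizedFactors_count W.asIdeal Q hI).symm.trans
        (hram Q hQp hQ0 inferInstance)).le
    · rw [Multiset.count_eq_zero.mpr hQ]; exact Nat.zero_le _
  intro x hx
  obtain ⟨m, hm⟩ := hx
  rw [← Ideal.span_singleton_le_iff_mem, ← Ideal.dvd_iff_le] at hm ⊢
  exact hsq.isRadical m _ (by rwa [Ideal.span_singleton_pow])

/-- A unit at an unramified place is, to any precision, the norm of an integral element. -/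
theorem exists_norm_val_sub_le' (W : HeightOneSpectrum (𝓞 K))
    (hram : ∀ Q : Ideal (𝓞 L), Q.IsPrime → Q ≠ ⊥ → Q.LiesOver W.asIdeal → Q.ramificationIdx (𝓞 K) = 1)
    (c : K) (hc : W.valuation K c = 1) (n : ℕ) :
    ∃ (b : 𝓞 L) (s : 𝓞 K), W.intValuation s = 1 ∧
      W.valuation K (Algebra.norm K ((b : L) / algebraMap (𝓞 L) L (algebraMap (𝓞 K) (𝓞 L) s)) - c) ≤ exp (-(n : ℤ)) := by
  classical
  let p := W.asIdeal
  haveI : p.IsMaximal := W.isMaximal
  let Rₚ := Localization.AtPrime p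
  let Sₚ := Localization (Algebra.algebraMapSubmonoid (𝓞 L) p.primeCompl)
  letI : Algebra Rₚ Sₚ := localizationAlgebra p.primeCompl (𝓞 L)
  haveI : IsScalarTower (𝓞 K) Rₚ Sₚ := IsScalarTower.of_algebraMap_eq'
    (by rw [RingHom.algebraMap_toAlgebra, IsLocalization.map_comp, ← IsScalarTower.algebraMap_eq])
  have e : Algebra.algebraMapSubmonoid (𝓞 L) p.primeCompl ≤ (𝓞 L)⁰ :=
    Submonoid.map_le_of_le_comap _ <| p.primeCompl_le_nonZeroDivisors.trans
      (nonZeroDivisors_le_comap_nonZeroDivisors_of_injective _ (FaithfulSMul.algebraMap_injective _ _))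
  haveI : IsDomain Sₚ := IsLocalization.isDomain_of_le_nonZeroDivisors _ e
  haveI : IsTorsionFree Rₚ Sₚ := by
    rw [isTorsionFree_iff_algebraMap_injective, RingHom.injective_iff_ker_eq_bot,
      RingHom.ker_eq_bot_iff_eq_zero]
    simp
  haveI : Module.Finite Rₚ Sₚ := .of_isLocalization (𝓞 K) (𝓞 L) p.primeCompl
  haveI : IsIntegrallyClosed Sₚ := isIntegrallyClosed_of_isLocalization _ _ e
  haveI : IsDiscreteValuationRing Rₚ := (IsDedekindDomain.isDedekindDomainDvr (𝓞 K)).2 p W.ne_bot inferInstance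
  haveI : Module.Free Rₚ Sₚ := Module.free_of_finite_type_torsion_free'
  haveI : IsReduced (Sₚ ⧸ (maximalIdeal Rₚ).map (algebraMap Rₚ Sₚ)) := by
    haveI := (Ideal.isRadical_iff_quotient_reduced _).mp (isRadical_map W hram)
    exact isReduced_of_injective (IsLocalization.AtPrime.equivQuotientMapMaximalIdeal (𝓞 L) p Rₚ Sₚ).symm.toRingHom
      (RingEquiv.injective _)
  haveI : Nontrivial (Sₚ ⧸ (maximalIdeal Rₚ).map (algebraMap Rₚ Sₚ)) := by
    refine Ideal.Quotient.nontrivial_iff.mpr fun h => ?_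
    have := Submodule.eq_bot_of_le_smul_of_le_jacobson_bot (maximalIdeal Rₚ) (⊤ : Submodule Rₚ Sₚ)
      Module.Finite.fg_top (by rw [Ideal.smul_top_eq_map, h]; exact le_of_eq (by simp)) (maximalIdeal_le_jacobson _)
    exact one_ne_zero ((Submodule.mem_bot Rₚ).mp (this ▸ Submodule.mem_top (x := (1 : Sₚ))))
  haveI : Finite (ResidueField Rₚ) := by
    haveI : Finite (𝓞 K ⧸ p) := Ideal.finiteQuotientOfFreeOfNeBot _ W.ne_bot
    exact Finite.of_equiv _ (IsLocalization.AtPrime.equivQuotMaximalIdeal p Rₚ).toEquiv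
  haveI : FiniteDimensional K L := Module.Finite.of_restrictScalars_finite ℚ K L
  -- the unit as an element of the local ring
  obtain ⟨a, d, hd⟩ := W.exists_primeCompl_mul_eq_of_integer c hc.le
  have hd1 : W.intValuation (d : 𝓞 K) = 1 := (W.intValuation_eq_one_iff_mem_primeCompl _).mpr d.2
  have ha : a ∈ p.primeCompl := by
    rw [← W.intValuation_eq_one_iff_mem_primeCompl, ← W.valuation_of_algebraMap (K := K)]
    exact (congrArg (W.valuation K) hd).symm.trans (by rw [map_mul, hc, W.valuation_of_algebraMap, hd1, one_mul])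
  let c' : Rₚ := IsLocalization.mk' Rₚ a d
  have hc' : IsUnit c' := (IsLocalization.AtPrime.isUnit_mk'_iff Rₚ p a d).mpr ha
  obtain ⟨π, hπ⟩ : ∃ π : Rₚ, maximalIdeal Rₚ = Ideal.span {π} :=
    (IsPrincipalIdealRing.principal (maximalIdeal Rₚ)).principal
  obtain ⟨x, hx⟩ := exists_norm_sub_mem (S := Sₚ) hπ hc' n
  obtain ⟨⟨b, s', hs'⟩, hxs⟩ := IsLocalization.surj (Algebra.algebraMapSubmonoid (𝓞 L) p.primeCompl) x
  obtain ⟨s, hs, rfl⟩ := hs'
  letI := FractionRing.liftAlgebra (𝓞 K) (FractionRing (𝓞 L))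
  haveI : FiniteDimensional (FractionRing (𝓞 K)) (FractionRing (𝓞 L)) :=
    Module.Finite.of_isLocalization (𝓞 K) (𝓞 L) (𝓞 K)⁰
  have hN : ∀ z : 𝓞 L, Algebra.norm Rₚ (algebraMap (𝓞 L) Sₚ z) = algebraMap (𝓞 K) Rₚ (Algebra.intNorm (𝓞 K) (𝓞 L) z) :=
    fun z => by rw [Algebra.intNorm_eq_of_isLocalization p.primeCompl (Aₘ := Rₚ) (Bₘ := Sₚ), Algebra.intNorm_eq_norm]
  let σ := Algebra.intNorm (𝓞 K) (𝓞 L) (algebraMap (𝓞 K) (𝓞 L) s)
  let β := Algebra.intNorm (𝓞 K) (𝓞 L) b
  have hxs' : Algebra.norm Rₚ x * algebraMap (𝓞 K) Rₚ σ = algebraMap (𝓞 K) Rₚ β := by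
    have := congrArg (Algebra.norm Rₚ) hxs
    rwa [map_mul, hN, hN] at this
  have hσ : σ ∈ p.primeCompl := by
    rw [← IsLocalization.AtPrime.isUnit_to_map_iff Rₚ p, ← hN]
    refine IsUnit.map _ ?_
    exact IsLocalization.map_units Sₚ (⟨_, Algebra.mem_algebraMapSubmonoid_of_mem ⟨s, hs⟩⟩ :
      Algebra.algebraMapSubmonoid (𝓞 L) p.primeCompl)
  have hσ1 : W.intValuation σ = 1 := (W.intValuation_eq_one_iff_mem_primeCompl _).mpr hσ
  have hdiff : algebraMap (𝓞 K) Rₚ (β * (d : 𝓞 K) - a * σ) ∈ Ideal.map (algebraMap (𝓞 K) Rₚ) (p ^ n) := by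
    rw [Ideal.map_pow, Localization.AtPrime.map_eq_maximalIdeal, hπ, Ideal.span_singleton_pow, Ideal.mem_span_singleton]
    refine hx.trans ⟨algebraMap (𝓞 K) Rₚ σ * algebraMap (𝓞 K) Rₚ d, ?_⟩
    rw [map_sub, map_mul, map_mul, ← hxs', ← IsLocalization.mk'_spec Rₚ a d]
    ring
  obtain ⟨m, hm, hmem⟩ := (IsLocalization.algebraMap_mem_map_algebraMap_iff p.primeCompl Rₚ _ _).mp hdiff
  have hval : W.intValuation (β * (d : 𝓞 K) - a * σ) ≤ exp (-(n : ℤ)) := by
    rw [← one_mul (W.intValuation _), ← (W.intValuation_eq_one_iff_mem_primeCompl m).mpr hm, ← map_mul,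
      W.intValuation_le_pow_iff_mem]
    exact hmem
  refine ⟨b, s, (W.intValuation_eq_one_iff_mem_primeCompl _).mpr hs, ?_⟩
  have hβ : (β : K) = Algebra.norm K (b : L) := Algebra.algebraMap_intNorm (L := L) b
  have hσ' : (σ : K) = Algebra.norm K (algebraMap (𝓞 L) L (algebraMap (𝓞 K) (𝓞 L) s)) :=
    Algebra.algebraMap_intNorm (L := L) _
  have hσ0 : (σ : K) ≠ 0 := fun h => by
    rw [RingOfIntegers.coe_eq_zero_iff] at h; simp [h] at hσ1
  have hd0 : ((d : 𝓞 K) : K) ≠ 0 := fun h => by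
    rw [RingOfIntegers.coe_eq_zero_iff] at h; simp [h] at hd1
  have hc0 : c = (a : K) / ((d : 𝓞 K) : K) := eq_div_of_mul_eq hd0 hd
  rw [div_eq_mul_inv, map_mul, Algebra.norm_inv, ← hβ, ← hσ', ← div_eq_mul_inv, hc0, div_sub_div _ _ hσ0 hd0, map_div₀, mul_comm (σ : K) (a : K), map_mul, W.valuation_of_algebraMap,
    W.valuation_of_algebraMap, hσ1, hd1, one_mul, div_one, ← map_mul, ← map_mul, ← map_sub, W.valuation_of_algebraMap]
  exact hval

/-- A unit at an unramified place is a norm to any precision. -/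
theorem exists_norm_val_sub_le (W : HeightOneSpectrum (𝓞 K))
    (hram : ∀ Q : Ideal (𝓞 L), Q.IsPrime → Q ≠ ⊥ → Q.LiesOver W.asIdeal → Q.ramificationIdx (𝓞 K) = 1)
    (c : K) (hc : W.valuation K c = 1) (n : ℕ) :
    ∃ y : L, W.valuation K (Algebra.norm K y - c) ≤ exp (-(n : ℤ)) :=
  let ⟨_, _, _, h⟩ := exists_norm_val_sub_le' W hram c hc n
  ⟨_, h⟩

end GrothLib.UnitNorm28
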