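import Mathlib.RingTheory.Trace.Quotient
import Mathlib.RingTheory.Norm.Basic
import Mathlib.RingTheory.Artinian.Ring
import Mathlib.FieldTheory.Finite.GaloisField
import Mathlib.LinearAlgebra.Matrix.Charpoly.Coeff
import Mathlib.RingTheory.Trace.Basic

/-!
# Units are norms modulo every power, for unramified finite free algebras over local rings
-/

set_option autoImplicit false
set_option linter.style.haveILetI false

universe u v w

open IsLocalRing IsLocalization.AtPrime

namespace GrothLib.UnitNorm28

theorem norm_prod (R : Type u) [CommRing R] (S T : Type*) [CommRing S] [CommRing T] [Algebra R S] [Algebra R T]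
    [Module.Free R S] [Module.Free R T] [Module.Finite R S] [Module.Finite R T] (a : S) (b : T) :
    Algebra.norm R (a, b) = Algebra.norm R a * Algebra.norm R b := by
  rw [Algebra.norm_apply, Algebra.norm_apply, Algebra.norm_apply, ← LinearMap.det_prodMap]
  rfl

/-- In a finite reduced algebra over a finite field the norm is surjective and so is the trace. -/
theorem norm_trace_surjective (F B : Type*) [Field F] [Finite F] [CommRing B] [Algebra F B] [Module.Finite F B]
    [Nontrivial B] [IsReduced B] : Function.Surjective (Algebra.norm F (S := B)) ∧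
      Function.Surjective (Algebra.trace F B) := by
  classical
  haveI : IsArtinianRing B := isArtinian_of_tower F inferInstance
  obtain ⟨P⟩ := (inferInstance : Nonempty (MaximalSpectrum B))
  haveI : Fintype (MaximalSpectrum B) := Fintype.ofFinite _
  let J : Ideal B := ⨅ m ∈ Finset.univ.filter (· ≠ P), m.asIdeal
  have hcop : P.asIdeal ⊔ J = ⊤ := Ideal.sup_iInf_eq_top fun m hm =>
    P.isMaximal.coprime_of_ne m.isMaximal fun h => (Finset.mem_filter.mp hm).2 (MaximalSpectrum.ext h.symm)
  have hinf : P.asIdeal ⊓ J = ⊥ := by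
    refine le_bot_iff.mp fun x hx => ?_
    have hall : ∀ m : MaximalSpectrum B, x ∈ m.asIdeal := fun m => by
      by_cases h : m = P
      · exact h ▸ hx.1
      · exact Ideal.mem_iInf.mp (Ideal.mem_iInf.mp hx.2 m) (Finset.mem_filter.mpr ⟨Finset.mem_univ m, h⟩)
    refine IsReduced.eq_zero x ?_
    rw [nilpotent_iff_mem_prime]
    exact fun Q hQ => hall ⟨Q, IsArtinianRing.isMaximal_of_isPrime Q⟩
  let φ : B →ₐ[F] (B ⧸ P.asIdeal) × (B ⧸ J) := (Ideal.Quotient.mkₐ F P.asIdeal).prod (Ideal.Quotient.mkₐ F J)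
  have hφ : Function.Bijective φ := by
    refine ⟨(injective_iff_map_eq_zero φ).mpr fun x hx => ?_, fun y => ?_⟩
    · have h1 : x ∈ P.asIdeal := Ideal.Quotient.eq_zero_iff_mem.mp (congrArg Prod.fst hx)
      have h2 : x ∈ J := Ideal.Quotient.eq_zero_iff_mem.mp (congrArg Prod.snd hx)
      exact (Submodule.mem_bot B).mp (hinf ▸ ⟨h1, h2⟩)
    · obtain ⟨y1, hy1⟩ := Ideal.Quotient.mk_surjective y.1
      obtain ⟨y2, hy2⟩ := Ideal.Quotient.mk_surjective y.2
      obtain ⟨i, hi, j, hj, hij⟩ := Submodule.mem_sup.mp (hcop.symm ▸ Submodule.mem_top (x := y2 - y1))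
      refine ⟨y1 + i, Prod.ext ?_ ?_⟩
      · exact (map_add (Ideal.Quotient.mk P.asIdeal) y1 i).trans
          (by rw [Ideal.Quotient.eq_zero_iff_mem.mpr hi, add_zero, hy1])
      · refine Eq.trans ?_ hy2
        exact Ideal.Quotient.eq.mpr (by rw [show y1 + i - y2 = -j by rw [← add_left_cancel_iff (a := y1)] at hij; linear_combination hij]; exact J.neg_mem hj)
  let e := AlgEquiv.ofBijective φ hφ
  letI : Field (B ⧸ P.asIdeal) := Ideal.Quotient.field _
  haveI : Finite (B ⧸ P.asIdeal) := Module.finite_of_finite F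
  refine ⟨fun c => ?_, fun c => ?_⟩
  · obtain ⟨y, hy⟩ := FiniteField.norm_surjective F (B ⧸ P.asIdeal) c
    refine ⟨e.symm (y, 1), ?_⟩
    rw [← Algebra.norm_eq_of_algEquiv e, e.apply_symm_apply, norm_prod, hy, map_one, mul_one]
  · obtain ⟨y, hy⟩ := Algebra.trace_surjective F (B ⧸ P.asIdeal) c
    refine ⟨e.symm (y, 0), ?_⟩
    rw [← Algebra.trace_eq_of_algEquiv e, e.apply_symm_apply, Algebra.trace_prod_apply, hy, map_zero, add_zero]

variable {R : Type u} {S : Type v} [CommRing R] [IsLocalRing R] [CommRing S] [Algebra R S]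
  [Module.Free R S] [Module.Finite R S]

theorem norm_quotient_mk (x : S) :
    letI := Ideal.Quotient.field (maximalIdeal R)
    Algebra.norm (R ⧸ maximalIdeal R) (Ideal.Quotient.mk ((maximalIdeal R).map (algebraMap R S)) x) =
      Ideal.Quotient.mk (maximalIdeal R) (Algebra.norm R x) := by
  classical
  letI := Ideal.Quotient.field (maximalIdeal R)
  let b : Module.Basis (Module.Free.ChooseBasisIndex R S) R S := Module.Free.chooseBasis R S
  rw [Algebra.norm_eq_matrix_det b, Algebra.norm_eq_matrix_det (basisQuotient b), RingHom.map_det]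
  congr 1
  ext i j
  simp only [Algebra.leftMulMatrix_apply, Algebra.coe_lmul_eq_mul, LinearMap.toMatrix_apply,
    basisQuotient_apply, LinearMap.mul_apply', RingHom.mapMatrix_apply, Matrix.map_apply, ← map_mul,
    basisQuotient_repr]

omit [IsLocalRing R] in
theorem norm_one_add_smul (r : R) (w : S) :
    ∃ q : R, Algebra.norm R (1 + r • w) = 1 + Algebra.trace R S w * r + q * r ^ 2 := by
  classical
  let b : Module.Basis (Module.Free.ChooseBasisIndex R S) R S := Module.Free.chooseBasis R S
  rw [Algebra.norm_eq_matrix_det b, map_add, map_one, map_smul, Matrix.det_one_add_smul, Algebra.trace_eq_matrix_trace b]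
  exact ⟨_, rfl⟩

/-- Units are norms modulo every power of the maximal ideal. -/
theorem exists_norm_sub_mem {π : R} (hπ : maximalIdeal R = Ideal.span {π}) [Finite (ResidueField R)]
    [IsReduced (S ⧸ (maximalIdeal R).map (algebraMap R S))] [Nontrivial (S ⧸ (maximalIdeal R).map (algebraMap R S))]
    {c : R} (hc : IsUnit c) (n : ℕ) : ∃ x : S, π ^ n ∣ Algebra.norm R x - c := by
  letI := Ideal.Quotient.field (maximalIdeal R)
  haveI : Finite (R ⧸ maximalIdeal R) := ‹Finite (ResidueField R)›
  let I := (maximalIdeal R).map (algebraMap R S)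
  haveI : Module.Finite (R ⧸ maximalIdeal R) (S ⧸ I) := Module.Finite.of_restrictScalars_finite R _ _
  obtain ⟨hN, hT⟩ := norm_trace_surjective (R ⧸ maximalIdeal R) (S ⧸ I)
  have key : ∀ n, ∃ x : S, π ^ (n + 1) ∣ Algebra.norm R x - c := by
    intro n
    induction n with
    | zero =>
      obtain ⟨y, hy⟩ := hN (Ideal.Quotient.mk _ c)
      obtain ⟨x, rfl⟩ := Ideal.Quotient.mk_surjective y
      refine ⟨x, ?_⟩
      rw [norm_quotient_mk] at hy
      have := Ideal.Quotient.eq.mp hy
      rw [hπ, Ideal.mem_span_singleton] at this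
      rwa [pow_one]
    | succ n ih =>
      obtain ⟨x, d, hd⟩ := ih
      obtain ⟨cu, hcu⟩ := hc.exists_right_inv
      obtain ⟨y, hy⟩ := hT (Ideal.Quotient.mk _ (-(d * cu)))
      obtain ⟨w, rfl⟩ := Ideal.Quotient.mk_surjective y
      rw [Algebra.trace_quotient_mk] at hy
      obtain ⟨e, he⟩ := Ideal.mem_span_singleton.mp (hπ ▸ Ideal.Quotient.eq.mp hy)
      obtain ⟨q, hq⟩ := norm_one_add_smul (S := S) (π ^ (n + 1)) w
      refine ⟨x * (1 + π ^ (n + 1) • w), ?_⟩
      rw [map_mul, hq]
      refine ⟨c * e + π ^ n * (d * Algebra.trace R S w + c * q + π ^ (n + 1) * d * q), ?_⟩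
      have hx : Algebra.norm R x = c + π ^ (n + 1) * d := by linear_combination hd
      rw [hx]
      have hA : π ^ (n + 1 + 1) = π ^ (n + 1) * π := pow_succ π (n + 1)
      have hB : π ^ (n + 1) = π * π ^ n := pow_succ' π n
      linear_combination (c * π ^ (n + 1)) * he + (-π ^ (n + 1) * d) * hcu - (c * e + π ^ n * (d * Algebra.trace R S w + c * q + π ^ (n + 1) * d * q)) * hA +
        (π ^ (n + 1) * (d * Algebra.trace R S w + c * q + π ^ (n + 1) * d * q)) * hB
  cases n with
  | zero => exact ⟨1, by simp⟩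
  | succ n => exact key n

end GrothLib.UnitNorm28
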